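import Mathlib.RingTheory.Nilpotent.Exp
import Mathlib.RingTheory.MvPolynomial.Ideal
import Mathlib.NumberTheory.Padics.RingHoms
import Mathlib.NumberTheory.Wilson
import Mathlib.Data.Nat.Choose.Dvd
import Mathlib.Data.Nat.Prime.Factorial
import Mathlib.Algebra.CharP.Lemmas
import Mathlib.RingTheory.Ideal.Quotient.Operations

/-!
The Artin–Hasse exponential truncated in degree `2p`, and the Witt cocycle
`Ω(u,v) = (u^p + v^p - (u+v)^p)/p`.
-/

set_option autoImplicit false

universe u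

open Finset
open scoped Nat

namespace Groth.Agent.GaExt

variable (p : ℕ) [hp : Fact p.Prime]

/-- The Witt cocycle `(u^p + v^p - (u+v)^p)/p`. -/
def wfun {A : Type*} [CommRing A] (u v : A) : A :=
  -∑ i ∈ Ico 1 p, ((p.choose i / p : ℕ) : A) * u ^ i * v ^ (p - i)

omit hp in
theorem map_wfun {A B F : Type*} [CommRing A] [CommRing B] [FunLike F A B] [RingHomClass F A B]
    (f : F) (u v : A) : f (wfun p u v) = wfun p (f u) (f v) := by
  simp [wfun, map_sum, map_natCast]

theorem p_mul_wfun {A : Type*} [CommRing A] (u v : A) :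
    (p : A) * wfun p u v = u ^ p + v ^ p - (u + v) ^ p := by
  have h : (u + v) ^ p = u ^ p + v ^ p + (p : A) * (∑ i ∈ Ico 1 p, ((p.choose i / p : ℕ) : A) * u ^ i * v ^ (p - i)) := by
    have h0 : range (p + 1) = insert 0 (insert p (Ico 1 p)) := by
      ext i
      have := hp.out.pos
      simp only [Finset.mem_range, Finset.mem_insert, Finset.mem_Ico]
      omega
    have hne : (0 : ℕ) ∉ insert p (Ico 1 p) := by
      have := hp.out.pos
      simp only [Finset.mem_insert, Finset.mem_Ico]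
      omega
    rw [add_pow, h0, Finset.sum_insert hne, Finset.sum_insert (by simp), Finset.mul_sum]
    have : ∀ i ∈ Ico 1 p, u ^ i * v ^ (p - i) * ((p.choose i : ℕ) : A) =
        (p : A) * (((p.choose i / p : ℕ) : A) * u ^ i * v ^ (p - i)) := by
      intro i hi
      rw [Finset.mem_Ico] at hi
      have hd : p ∣ p.choose i := hp.out.dvd_choose_self (by omega) hi.2
      conv_lhs => rw [← Nat.mul_div_cancel' hd, Nat.cast_mul]
      ring
    rw [Finset.sum_congr rfl this]
    simp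
    ring
  rw [h, wfun]
  ring

/-- Universal cancellation. -/
theorem wfun_univ {σ : Type*} {a b : MvPolynomial σ ℤ}
    (h : (p : MvPolynomial σ ℤ) * a = (p : MvPolynomial σ ℤ) * b) : a = b :=
  mul_left_cancel₀ (fun h0 => hp.out.ne_zero (by
    simpa using congrArg MvPolynomial.constantCoeff h0)) h

theorem wfun_comm {A : Type*} [CommRing A] (u v : A) : wfun p u v = wfun p v u := by
  have h : wfun p (MvPolynomial.X 0 : MvPolynomial (Fin 2) ℤ) (MvPolynomial.X 1) =
      wfun p (MvPolynomial.X 1) (MvPolynomial.X 0) := by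
    apply wfun_univ p
    rw [p_mul_wfun, p_mul_wfun]; ring
  have := congrArg (MvPolynomial.eval₂Hom (Int.castRingHom A) ![u, v]) h
  simpa only [map_wfun, MvPolynomial.eval₂Hom_X', Matrix.cons_val_zero, Matrix.cons_val_one,
    Matrix.cons_val] using this

theorem wfun_cocycle {A : Type*} [CommRing A] (u v w : A) :
    wfun p u v + wfun p (u + v) w = wfun p u (v + w) + wfun p v w := by
  have h : wfun p (MvPolynomial.X 0 : MvPolynomial (Fin 3) ℤ) (MvPolynomial.X 1) +
      wfun p (MvPolynomial.X 0 + MvPolynomial.X 1) (MvPolynomial.X 2) =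
      wfun p (MvPolynomial.X 0) (MvPolynomial.X 1 + MvPolynomial.X 2) +
        wfun p (MvPolynomial.X 1) (MvPolynomial.X 2) := by
    apply wfun_univ p
    rw [mul_add, mul_add, p_mul_wfun, p_mul_wfun, p_mul_wfun, p_mul_wfun]; ring
  have := congrArg (MvPolynomial.eval₂Hom (Int.castRingHom A) ![u, v, w]) h
  simpa only [map_add, map_wfun, MvPolynomial.eval₂Hom_X', Matrix.cons_val_zero, Matrix.cons_val_one,
    Matrix.cons_val_two, Matrix.head_cons, Matrix.tail_cons, Matrix.cons_val] using this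

theorem exists_padic_coeff (r : ℕ) (hr : r < p) :
    ∃ b : ℤ_[p], (b : ℚ_[p]) = ((p + r)! : ℚ_[p])⁻¹ + ((p : ℚ_[p]) * (r ! : ℚ_[p]))⁻¹ := by
  let W : ℕ := (p - 1)! * (p + 1).ascFactorial r
  have hW : (p + r)! = p * W := by
    rw [← Nat.factorial_mul_ascFactorial, ← Nat.mul_factorial_pred hp.out.ne_zero]
    simp only [W]; ring
  have hasc : ∀ s, (((p + 1).ascFactorial s : ℕ) : ZMod p) = ((s ! : ℕ) : ZMod p) := by
    intro s
    induction s with
    | zero => simp
    | succ s ih =>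
      rw [Nat.ascFactorial_succ, Nat.cast_mul, ih, Nat.factorial_succ, Nat.cast_mul]
      push_cast
      rw [ZMod.natCast_self]
      ring
  have hWmod : (W : ZMod p) = -((r ! : ℕ) : ZMod p) := by
    simp only [W, Nat.cast_mul, hasc, ZMod.wilsons_lemma, neg_mul, one_mul]
  obtain ⟨z, hz⟩ : p ∣ r ! + W := by
    rw [← ZMod.natCast_eq_zero_iff, Nat.cast_add, hWmod, add_neg_cancel]
  have hfac : ¬ p ∣ r ! := fun h => by
    have := (Nat.Prime.dvd_factorial hp.out).mp h
    omega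
  have hWu : ¬ p ∣ W * r ! := by
    intro h
    rcases hp.out.dvd_mul.mp h with h | h
    · have h0 : (W : ZMod p) = 0 := (ZMod.natCast_eq_zero_iff _ _).mpr h
      rw [hWmod, neg_eq_zero, ZMod.natCast_eq_zero_iff] at h0
      exact hfac h0
    · exact hfac h
  have hu : IsUnit ((W * r ! : ℕ) : ℤ_[p]) := by
    rw [PadicInt.isUnit_iff, PadicInt.norm_natCast_eq_one_iff]
    exact (hp.out.coprime_iff_not_dvd.mpr hWu)
  obtain ⟨v, hv⟩ := hu
  refine ⟨(z : ℤ_[p]) * ((v⁻¹ : ℤ_[p]ˣ) : ℤ_[p]), ?_⟩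
  have h1 : ((z : ℤ_[p]) * ((v⁻¹ : ℤ_[p]ˣ) : ℤ_[p]) : ℤ_[p]) * ((W * r ! : ℕ) : ℤ_[p]) = z := by
    rw [← hv, mul_assoc, Units.inv_mul, mul_one]
  have h2 := congrArg (fun x : ℤ_[p] => (x : ℚ_[p])) h1
  simp only [PadicInt.coe_mul, PadicInt.coe_natCast] at h2
  have hp0 : (p : ℚ_[p]) ≠ 0 := Nat.cast_ne_zero.mpr hp.out.ne_zero
  have hW0 : (W : ℚ_[p]) ≠ 0 := Nat.cast_ne_zero.mpr fun h => hWu (by simp [h])
  have hr0 : (r ! : ℚ_[p]) ≠ 0 := Nat.cast_ne_zero.mpr (Nat.factorial_ne_zero r)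
  rw [hW]
  have hzc : (r ! : ℚ_[p]) + (W : ℚ_[p]) = p * z := by exact_mod_cast congrArg (Nat.cast (R := ℚ_[p])) hz
  rw [PadicInt.coe_mul, PadicInt.coe_natCast]
  push_cast at h2 ⊢
  field_simp
  linear_combination (p : ℚ_[p]) * h2 - hzc

/-- The coefficients of the truncated Artin–Hasse exponential. -/
noncomputable def ahCoeff (n : ℕ) : ℤ_[p] :=
  if h : p ≤ n ∧ n < 2 * p then (exists_padic_coeff p (n - p) (by omega)).choose
  else Ring.inverse (n ! : ℤ_[p])

theorem coe_ahCoeff (n : ℕ) (hn : n < 2 * p) : (ahCoeff p n : ℚ_[p]) =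
    (n ! : ℚ_[p])⁻¹ + (if p ≤ n then ((p : ℚ_[p]) * ((n - p)! : ℚ_[p]))⁻¹ else 0) := by
  unfold ahCoeff
  by_cases h : p ≤ n
  · rw [dif_pos ⟨h, hn⟩, if_pos h, (exists_padic_coeff p (n - p) (by omega)).choose_spec]
    rw [Nat.add_sub_cancel' h]
  · rw [dif_neg (fun h' => h h'.1), if_neg h, add_zero]
    have hu : IsUnit (n ! : ℤ_[p]) := by
      rw [PadicInt.isUnit_iff, PadicInt.norm_natCast_eq_one_iff]
      exact hp.out.coprime_iff_not_dvd.mpr fun hd => h ((Nat.Prime.dvd_factorial hp.out).mp hd)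
    apply eq_inv_of_mul_eq_one_left
    have := congrArg (fun x : ℤ_[p] => (x : ℚ_[p])) (Ring.inverse_mul_cancel _ hu)
    simpa using this

/-- The truncated exponential evaluated in a ring receiving `ℤ_p`. -/
noncomputable def ah {A : Type*} [CommRing A] (ρ : ℤ_[p] →+* A) (t : A) : A :=
  ∑ n ∈ range (2 * p), ρ (ahCoeff p n) * t ^ n

theorem map_ah {A B : Type*} [CommRing A] [CommRing B] (ρ : ℤ_[p] →+* A) (f : A →+* B) (t : A) :
    f (ah p ρ t) = ah p (f.comp ρ) (f t) := by
  simp [ah, map_sum]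

theorem ah_zero {A : Type*} [CommRing A] (ρ : ℤ_[p] →+* A) : ah p ρ 0 = 1 := by
  have hmem : 0 ∈ range (2 * p) := Finset.mem_range.mpr (by have := hp.out.pos; omega)
  rw [ah, Finset.sum_eq_single_of_mem 0 hmem (fun n _ hn => by simp [hn]), pow_zero, mul_one]
  have : ahCoeff p 0 = 1 := by
    apply PadicInt.ext
    rw [coe_ahCoeff p 0 (by have := hp.out.pos; omega), if_neg (by have := hp.out.pos; omega)]
    simp
  rw [this, map_one]

theorem ah_mul_universal :
    ah p MvPolynomial.C (MvPolynomial.X 0 : MvPolynomial (Fin 2) ℤ_[p]) * ah p MvPolynomial.C (MvPolynomial.X 1) -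
      ah p MvPolynomial.C (MvPolynomial.X 0 + MvPolynomial.X 1) *
        (1 + wfun p (MvPolynomial.X 0) (MvPolynomial.X 1)) ∈
      MvPolynomial.idealOfVars (Fin 2) ℤ_[p] ^ (2 * p) := by
  rw [MvPolynomial.mem_pow_idealOfVars_iff']
  let M := MvPolynomial.idealOfVars (Fin 2) ℚ_[p] ^ (2 * p)
  let Q := MvPolynomial (Fin 2) ℚ_[p] ⧸ M
  let π : MvPolynomial (Fin 2) ℚ_[p] →+* Q := Ideal.Quotient.mk M
  let ρ := MvPolynomial.map (PadicInt.Coe.ringHom (p := p)) (σ := Fin 2)
  suffices key : ∀ D, π (ρ D) = 0 → ∀ m : Fin 2 →₀ ℕ, m.degree < 2 * p → D.coeff m = 0 by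
    refine key _ ?_
    set x : Q := π (MvPolynomial.X 0) with hx
    set y : Q := π (MvPolynomial.X 1) with hy
    have hmem : ∀ z : MvPolynomial (Fin 2) ℚ_[p], z ∈ MvPolynomial.idealOfVars (Fin 2) ℚ_[p] →
        π z ^ (2 * p) = 0 := fun z hz => by
      rw [← map_pow]
      exact Ideal.Quotient.eq_zero_iff_mem.mpr (Ideal.pow_mem_pow hz _)
    have hX : ∀ i : Fin 2, (MvPolynomial.X i : MvPolynomial (Fin 2) ℚ_[p]) ∈
        MvPolynomial.idealOfVars (Fin 2) ℚ_[p] := fun i => Ideal.subset_span ⟨i, rfl⟩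
    have hx2 : x ^ (2 * p) = 0 := hmem _ (hX 0)
    have hy2 : y ^ (2 * p) = 0 := hmem _ (hX 1)
    have hxy2 : (x + y) ^ (2 * p) = 0 := by
      rw [hx, hy, ← map_add]; exact hmem _ (add_mem (hX 0) (hX 1))
    have hmix : ∀ a b : ℕ, a + b = 2 * p → x ^ a * y ^ b = 0 := by
      intro a b hab
      rw [hx, hy, ← map_pow, ← map_pow, ← map_mul]
      refine Ideal.Quotient.eq_zero_iff_mem.mpr ?_
      show _ ∈ MvPolynomial.idealOfVars (Fin 2) ℚ_[p] ^ (2 * p)
      rw [← hab, pow_add]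
      exact Ideal.mul_mem_mul (Ideal.pow_mem_pow (hX 0) a) (Ideal.pow_mem_pow (hX 1) b)
    have hw2 : ∀ z w : MvPolynomial (Fin 2) ℚ_[p], z ∈ MvPolynomial.idealOfVars (Fin 2) ℚ_[p] →
        w ∈ MvPolynomial.idealOfVars (Fin 2) ℚ_[p] → π z ^ p * π w ^ p = 0 := by
      intro z w hz hw
      rw [← map_pow, ← map_pow, ← map_mul]
      refine Ideal.Quotient.eq_zero_iff_mem.mpr ?_
      show _ ∈ MvPolynomial.idealOfVars (Fin 2) ℚ_[p] ^ (2 * p)
      rw [two_mul, pow_add]
      exact Ideal.mul_mem_mul (Ideal.pow_mem_pow hz p) (Ideal.pow_mem_pow hw p)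
    let ψ : ℤ_[p] →+* Q := (π.comp MvPolynomial.C).comp PadicInt.Coe.ringHom
    let c : Q := algebraMap ℚ Q (p : ℚ)⁻¹
    have hc : c * (p : Q) = 1 := by
      rw [← map_natCast (algebraMap ℚ Q) p, ← map_mul,
        inv_mul_cancel₀ (Nat.cast_ne_zero.mpr hp.out.ne_zero), map_one]
    have hah : ∀ t : Q, t ^ (2 * p) = 0 → ah p ψ t = IsNilpotent.exp t * (1 + c * t ^ p) := by
      intro t ht
      have hψ : ∀ n ∈ range (2 * p), ψ (ahCoeff p n) * t ^ n =
          algebraMap ℚ Q (n ! : ℚ)⁻¹ * t ^ n +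
            if p ≤ n then c * algebraMap ℚ Q ((n - p)! : ℚ)⁻¹ * t ^ n else 0 := by
        intro n hn
        have : ψ (ahCoeff p n) = π (MvPolynomial.C (ahCoeff p n : ℚ_[p])) := rfl
        rw [this, coe_ahCoeff p n (Finset.mem_range.mp hn)]
        have e : ∀ q : ℚ, algebraMap ℚ Q q = π (MvPolynomial.C (algebraMap ℚ ℚ_[p] q)) :=
          fun q => RingHom.congr_fun (Subsingleton.elim (algebraMap ℚ Q) ((π.comp MvPolynomial.C).comp (algebraMap ℚ ℚ_[p]))) q
        split_ifs with h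
        · simp only [c, e, map_inv₀, map_natCast, mul_inv, ← map_mul, ← map_add, add_mul]
          rw [map_add, map_add, add_mul]
        · simp only [e, map_inv₀, map_natCast, add_zero]
      rw [ah, Finset.sum_congr rfl hψ, Finset.sum_add_distrib, IsNilpotent.exp_eq_sum ht,
        mul_add, mul_one]
      have hsm : ∀ (q : ℚ) (z : Q), q • z = algebraMap ℚ Q q * z := fun q z => Algebra.smul_def q z
      simp only [hsm]
      congr 1
      rw [Finset.sum_mul, ← Finset.sum_filter]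
      have hzero : ∀ n ∈ range (2 * p), ¬ n < p →
          algebraMap ℚ Q (n ! : ℚ)⁻¹ * t ^ n * (c * t ^ p) = 0 := by
        intro n _ hn
        have : t ^ n * t ^ p = 0 := by
          rw [← pow_add]
          exact pow_eq_zero_of_le (by omega) ht
        linear_combination (algebraMap ℚ Q (n ! : ℚ)⁻¹ * c) * this
      conv_rhs =>
        rw [← Finset.sum_filter_of_ne (p := fun n => n < p) (fun n hn hne => by
          by_contra h; exact hne (hzero n hn h))]
      refine Finset.sum_nbij' (fun n => n - p) (fun r => r + p) ?_ ?_ ?_ ?_ ?_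
      · intro n hn; simp only [Finset.mem_filter, Finset.mem_range] at hn ⊢; omega
      · intro n hn; simp only [Finset.mem_filter, Finset.mem_range] at hn ⊢; omega
      · intro n hn; simp only [Finset.mem_filter, Finset.mem_range] at hn ⊢; omega
      · intro n hn; simp only [Finset.mem_filter, Finset.mem_range] at hn ⊢; omega
      · intro n hn
        simp only [Finset.mem_filter, Finset.mem_range] at hn
        have : t ^ n = t ^ (n - p) * t ^ p := by rw [← pow_add, Nat.sub_add_cancel hn.2]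
        linear_combination c * algebraMap ℚ Q ((n - p)! : ℚ)⁻¹ * this
    have hψC : (π.comp ρ).comp MvPolynomial.C = ψ := by ext r; simp [ψ, ρ]
    have hπρ : ∀ D, π (ρ D) = π.comp ρ D := fun _ => rfl
    have hρX : ∀ i, π.comp ρ (MvPolynomial.X i) = π (MvPolynomial.X i) := fun i => by simp [ρ]
    rw [hπρ, map_sub, map_mul, map_mul, map_add, map_one, map_ah, map_ah, map_ah, map_wfun, map_add,
      hψC, hρX, hρX, ← hx, ← hy, hah x hx2, hah y hy2, hah _ hxy2,
      IsNilpotent.exp_add_of_commute (Commute.all x y) ⟨_, hx2⟩ ⟨_, hy2⟩]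
    have hw : c * (x ^ p + y ^ p - (x + y) ^ p) = wfun p x y := by
      rw [← p_mul_wfun, ← mul_assoc, hc, one_mul]
    have e1 : x ^ p * y ^ p = 0 := hmix p p (two_mul p).symm
    have e2 : (x + y) ^ p * x ^ p = 0 := by
      rw [hx, hy, ← map_add]; exact hw2 _ _ (add_mem (hX 0) (hX 1)) (hX 0)
    have e3 : (x + y) ^ p * y ^ p = 0 := by
      rw [hx, hy, ← map_add]; exact hw2 _ _ (add_mem (hX 0) (hX 1)) (hX 1)
    have e4 : (x + y) ^ p * (x + y) ^ p = 0 := by rw [← pow_add, ← two_mul]; exact hxy2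
    rw [← hw]
    linear_combination (IsNilpotent.exp x * IsNilpotent.exp y * c * c) * e1 -
      (IsNilpotent.exp x * IsNilpotent.exp y * c * c) * (e2 + e3 - e4)
  intro D hD m hm
  have h1 : ρ D ∈ MvPolynomial.idealOfVars (Fin 2) ℚ_[p] ^ (2 * p) :=
    Ideal.Quotient.eq_zero_iff_mem.mp hD
  rw [MvPolynomial.mem_pow_idealOfVars_iff'] at h1
  have h2 := h1 m hm
  rw [MvPolynomial.coeff_map] at h2
  exact Subtype.ext h2

/-- The coefficient map into a ring of characteristic `p`. -/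
noncomputable def padicTo (A : Type*) [CommRing A] [CharP A p] : ℤ_[p] →+* A :=
  (ZMod.castHom dvd_rfl A).comp PadicInt.toZMod

/-- The key congruence. -/
theorem ah_mul {A : Type*} [CommRing A] (ρ : ℤ_[p] →+* A) (d x y : A) :
    ∃ w, ah p ρ (d * x) * ah p ρ (d * y) =
      ah p ρ (d * (x + y)) * (1 + d ^ p * wfun p x y) + d ^ (2 * p) * w := by
  let f : MvPolynomial (Fin 2) ℤ_[p] →+* A := MvPolynomial.eval₂Hom ρ ![d * x, d * y]
  have h := Ideal.mem_map_of_mem f (ah_mul_universal p)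
  rw [Ideal.map_pow] at h
  have hle : (MvPolynomial.idealOfVars (Fin 2) ℤ_[p]).map f ≤ Ideal.span {d} := by
    rw [MvPolynomial.idealOfVars, Ideal.map_span, Ideal.span_le]
    rintro _ ⟨_, ⟨i, rfl⟩, rfl⟩
    fin_cases i <;> simp [f, Ideal.mem_span_singleton]
  have h' := Ideal.pow_right_mono hle (2 * p) h
  rw [Ideal.span_singleton_pow, Ideal.mem_span_singleton] at h'
  obtain ⟨w, hw⟩ := h'
  refine ⟨w, ?_⟩
  have hf : f.comp MvPolynomial.C = ρ := by ext r; simp [f]
  rw [map_sub, map_mul, map_mul, map_add, map_one, map_ah, map_ah, map_ah, map_wfun, map_add, hf] at hw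
  simp only [f, MvPolynomial.eval₂Hom_X', Matrix.cons_val_zero, Matrix.cons_val_one] at hw
  have hwf : wfun p (d * x) (d * y) = d ^ p * wfun p x y := by
    simp only [wfun, mul_neg, Finset.mul_sum]
    congr 1
    refine Finset.sum_congr rfl fun i hi => ?_
    rw [Finset.mem_Ico] at hi
    have : d ^ p = d ^ i * d ^ (p - i) := by rw [← pow_add, Nat.add_sub_cancel' hi.2.le]
    rw [this]; ring
  rw [hwf, ← mul_add] at hw
  linear_combination hw

end Groth.Agent.GaExt
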