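import Groth.Agent.GaExt.ArtinHasse
import Groth.Agent.WittExt.Lazard
import Mathlib.Algebra.MvPolynomial.Polynomial
import Mathlib.RingTheory.Polynomial.Basic
import Mathlib.LinearAlgebra.Basis.VectorSpace
import Mathlib.LinearAlgebra.FiniteDimensional.Basic
import Mathlib.Algebra.Algebra.ZMod

/-!
Symmetric additive cocycles modulo an ideal in characteristic `p`: a coboundary plus Witt cocycles.
-/

set_option autoImplicit false

universe u

open Groth.Agent.WittExt

namespace Groth.Agent.GaExt

variable (p : ℕ) [hp : Fact p.Prime]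

section coeffMap

variable {A : Type*} [CommRing A] [Algebra (ZMod p) A] {σ τ : Type*}

/-- Apply a functional coefficientwise. -/
noncomputable def coeffFun (φ : A →ₗ[ZMod p] ZMod p) :
    MvPolynomial σ A →+ MvPolynomial σ (ZMod p) where
  toFun q := AddMonoidAlgebra.ofCoeff (Finsupp.mapRange φ (map_zero φ) (AddMonoidAlgebra.coeff q))
  map_zero' := by ext m; simp [MvPolynomial.coeff]
  map_add' q q' := by ext m; simp [MvPolynomial.coeff]

theorem coeff_coeffFun (φ : A →ₗ[ZMod p] ZMod p) (q : MvPolynomial σ A) (m : σ →₀ ℕ) :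
    (coeffFun p φ q).coeff m = φ (q.coeff m) := by
  simp [coeffFun, MvPolynomial.coeff]

theorem coeffFun_C_mul_map (φ : A →ₗ[ZMod p] ZMod p) (c : A) (P : MvPolynomial σ (ZMod p)) :
    coeffFun p φ (MvPolynomial.C c * MvPolynomial.map (algebraMap (ZMod p) A) P) =
      MvPolynomial.C (φ c) * P := by
  ext m
  rw [coeff_coeffFun, MvPolynomial.coeff_C_mul, MvPolynomial.coeff_map, MvPolynomial.coeff_C_mul,
    mul_comm c, ← Algebra.smul_def, map_smul, smul_eq_mul, mul_comm]

theorem coeffFun_aeval (φ : A →ₗ[ZMod p] ZMod p) (v : σ → MvPolynomial τ (ZMod p))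
    (q : MvPolynomial σ A) :
    coeffFun p φ (MvPolynomial.aeval (fun i => MvPolynomial.map (algebraMap (ZMod p) A) (v i)) q) =
      MvPolynomial.aeval v (coeffFun p φ q) := by
  induction q using MvPolynomial.induction_on' with
  | monomial m c =>
    have : coeffFun p φ (MvPolynomial.monomial m c) = MvPolynomial.monomial m (φ c) := by
      classical
      ext m'
      rw [coeff_coeffFun, MvPolynomial.coeff_monomial, MvPolynomial.coeff_monomial]
      split_ifs <;> simp
    rw [this, MvPolynomial.aeval_monomial, MvPolynomial.aeval_monomial, MvPolynomial.algebraMap_eq,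
      MvPolynomial.algebraMap_eq, ← coeffFun_C_mul_map p φ c]
    congr 2
    simp [map_finsuppProd, map_pow]
  | add a b ha hb => simp only [map_add, ha, hb]

end coeffMap

/-- `g(u) + g(v) - g(u+v)`. -/
noncomputable def delta {R A : Type*} [CommRing R] [CommRing A] (φ : R →+* A) (g : Polynomial R) (u v : A) : A :=
  g.eval₂ φ u + g.eval₂ φ v - g.eval₂ φ (u + v)

theorem ev_dP' {A : Type*} [CommRing A] (φ : ZMod p →+* A) (u v : A) (g : Polynomial (ZMod p)) :
    Lazard.ev φ u v (Lazard.dP g) = delta φ g u v := by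
  induction g using Polynomial.induction_on' with
  | add a b ha hb =>
    have e : Lazard.dP (a + b) = Lazard.dP a + Lazard.dP b := by
      simp only [Lazard.dP, map_add, Polynomial.map_add, Polynomial.eval₂_add]; ring
    rw [e, map_add, ha, hb]
    simp only [delta, Polynomial.eval₂_add]
    ring
  | monomial n c =>
    simp [Lazard.dP, delta, Lazard.ev, Polynomial.eval₂_monomial, Polynomial.map_monomial,
      Polynomial.eval₂_pow, Polynomial.eval₂_add]

theorem ev_omega_pow' {A : Type*} [CommRing A] (φ : ZMod p →+* A) (u v : A) (s : ℕ) (b : ZMod p) :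
    Lazard.ev φ u v (Polynomial.C (Polynomial.C b) *
      Lazard.ev (Polynomial.C.comp Polynomial.C) (Polynomial.C (Polynomial.X : Polynomial (ZMod p)) ^ p ^ s)
        ((Polynomial.X : Polynomial (Polynomial (ZMod p))) ^ p ^ s) (Lazard.omegaP p (ZMod p))) =
      φ b * wfun p (u ^ p ^ s) (v ^ p ^ s) := by
  simp [Lazard.ev, Lazard.omegaP, wfun, Polynomial.eval₂_finsetSum, Polynomial.eval₂_pow]

theorem ev_id' (f : Polynomial (Polynomial (ZMod p))) :
    Lazard.ev (Polynomial.C.comp Polynomial.C) (Polynomial.C (Polynomial.X : Polynomial (ZMod p)))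
      (Polynomial.X : Polynomial (Polynomial (ZMod p))) f = f := by
  induction f using Lazard.induction_mono with
  | hadd a b ha hb => simp only [map_add, ha, hb]
  | hmono a b r =>
    rw [Lazard.ev_monomial, RingHom.comp_apply, ← map_pow, ← map_mul, Polynomial.C_mul_X_pow_eq_monomial,
      Polynomial.C_mul_X_pow_eq_monomial]

/-- The standard combination. -/
noncomputable def stdPoly (g : Polynomial (ZMod p)) (M : ℕ) (b : ℕ → ZMod p) :
    Polynomial (Polynomial (ZMod p)) :=
  Lazard.dP g + ∑ s ∈ Finset.range M, Polynomial.C (Polynomial.C (b s)) *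
      Lazard.ev (Polynomial.C.comp Polynomial.C) (Polynomial.C (Polynomial.X : Polynomial (ZMod p)) ^ p ^ s)
        ((Polynomial.X : Polynomial (Polynomial (ZMod p))) ^ p ^ s) (Lazard.omegaP p (ZMod p))

theorem ev_stdPoly {A : Type*} [CommRing A] (φ : ZMod p →+* A) (u v : A) (g : Polynomial (ZMod p))
    (M : ℕ) (b : ℕ → ZMod p) :
    Lazard.ev φ u v (stdPoly p g M b) = delta φ g u v +
      ∑ s ∈ Finset.range M, φ (b s) * wfun p (u ^ p ^ s) (v ^ p ^ s) := by
  rw [stdPoly, map_add, map_sum, ev_dP']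
  exact congrArg _ (Finset.sum_congr rfl fun s _ => ev_omega_pow' p φ u v s (b s))

theorem ev_stdPoly_comm {A : Type*} [CommRing A] (φ : ZMod p →+* A) (u v : A) (g : Polynomial (ZMod p))
    (M : ℕ) (b : ℕ → ZMod p) :
    Lazard.ev φ u v (stdPoly p g M b) = Lazard.ev φ v u (stdPoly p g M b) := by
  rw [ev_stdPoly, ev_stdPoly]
  simp only [delta, add_comm u v, wfun_comm p (u ^ p ^ _)]
  ring

theorem ev_stdPoly_cocycle {A : Type*} [CommRing A] [CharP A p] (φ : ZMod p →+* A) (u v w : A)
    (g : Polynomial (ZMod p)) (M : ℕ) (b : ℕ → ZMod p) :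
    Lazard.ev φ u v (stdPoly p g M b) + Lazard.ev φ (u + v) w (stdPoly p g M b) =
      Lazard.ev φ u (v + w) (stdPoly p g M b) + Lazard.ev φ v w (stdPoly p g M b) := by
  simp only [ev_stdPoly]
  rw [add_add_add_comm (delta φ g u v), add_add_add_comm (delta φ g u (v + w)), ← Finset.sum_add_distrib, ← Finset.sum_add_distrib]
  congr 1
  · simp only [delta, add_assoc u v w]
    ring
  · refine Finset.sum_congr rfl fun s _ => ?_
    rw [← mul_add, ← mul_add, add_pow_char_pow, add_pow_char_pow, wfun_cocycle]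

theorem good_std (g : Polynomial (ZMod p)) (M : ℕ) (b : ℕ → ZMod p) :
    Lazard.ev (Polynomial.C.comp Polynomial.C) (Polynomial.X : Polynomial (Polynomial (ZMod p)))
        (Polynomial.C Polynomial.X) (stdPoly p g M b) = stdPoly p g M b ∧
    Lazard.ev (Polynomial.C.comp (Polynomial.C.comp Polynomial.C))
          (Polynomial.C (Polynomial.C (Polynomial.X : Polynomial (ZMod p)))) (Polynomial.C Polynomial.X) (stdPoly p g M b) +
        Lazard.ev (Polynomial.C.comp (Polynomial.C.comp Polynomial.C))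
          (Polynomial.C (Polynomial.C (Polynomial.X : Polynomial (ZMod p))) + Polynomial.C Polynomial.X) Polynomial.X (stdPoly p g M b) =
      Lazard.ev (Polynomial.C.comp (Polynomial.C.comp Polynomial.C))
          (Polynomial.C (Polynomial.C (Polynomial.X : Polynomial (ZMod p)))) (Polynomial.C Polynomial.X + Polynomial.X) (stdPoly p g M b) +
        Lazard.ev (Polynomial.C.comp (Polynomial.C.comp Polynomial.C))
          (Polynomial.C (Polynomial.X : Polynomial (Polynomial (ZMod p)))) Polynomial.X (stdPoly p g M b) :=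
  ⟨(ev_stdPoly_comm p _ _ _ g M b).trans (ev_id' p _), ev_stdPoly_cocycle p _ _ _ _ g M b⟩

/-- The decomposition over the prime field. -/
theorem exists_decomposition_prime (P : MvPolynomial (Fin 2) (ZMod p))
    (hs : MvPolynomial.aeval ![MvPolynomial.X 1, (MvPolynomial.X 0 : MvPolynomial (Fin 2) (ZMod p))] P = P)
    (hc : MvPolynomial.aeval ![MvPolynomial.X 0, (MvPolynomial.X 1 : MvPolynomial (Fin 3) (ZMod p))] P +
        MvPolynomial.aeval ![MvPolynomial.X 0 + MvPolynomial.X 1, (MvPolynomial.X 2 : MvPolynomial (Fin 3) (ZMod p))] P =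
      MvPolynomial.aeval ![MvPolynomial.X 0, MvPolynomial.X 1 + (MvPolynomial.X 2 : MvPolynomial (Fin 3) (ZMod p))] P +
        MvPolynomial.aeval ![MvPolynomial.X 1, (MvPolynomial.X 2 : MvPolynomial (Fin 3) (ZMod p))] P) :
    ∃ (g : Polynomial (ZMod p)) (M : ℕ) (b : ℕ → ZMod p),
      P = delta MvPolynomial.C g (MvPolynomial.X 0) (MvPolynomial.X 1) +
        ∑ s ∈ Finset.range M, MvPolynomial.C (b s) *
          wfun p (MvPolynomial.X 0 ^ p ^ s) (MvPolynomial.X 1 ^ p ^ s) := by
  let e : MvPolynomial (Fin 2) (ZMod p) →+* Polynomial (Polynomial (ZMod p)) :=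
    MvPolynomial.eval₂Hom (Polynomial.C.comp Polynomial.C) ![Polynomial.C Polynomial.X, Polynomial.X]
  have hev : ∀ {A : Type} [CommRing A] (φ : (ZMod p) →+* A) (u v : A) (Q : MvPolynomial (Fin 2) (ZMod p)),
      Lazard.ev φ u v (e Q) = MvPolynomial.eval₂Hom φ ![u, v] Q := by
    intro A _ φ u v Q
    refine RingHom.congr_fun (?_ : (Lazard.ev φ u v).comp e = _) Q
    refine MvPolynomial.ringHom_ext (fun r => by simp [e, Lazard.ev]) (fun i => ?_)
    fin_cases i <;> simp [e, Lazard.ev]
  let e3 : MvPolynomial (Fin 3) (ZMod p) →+* Polynomial (Polynomial (Polynomial (ZMod p))) :=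
    MvPolynomial.eval₂Hom (S₁ := Polynomial (Polynomial (Polynomial (ZMod p))))
      (Polynomial.C.comp (Polynomial.C.comp (Polynomial.C : (ZMod p) →+* Polynomial (ZMod p))))
      ![Polynomial.C (Polynomial.C Polynomial.X), Polynomial.C Polynomial.X, Polynomial.X]
  have hev3 : ∀ a b : MvPolynomial (Fin 3) (ZMod p), Lazard.ev (Polynomial.C.comp (Polynomial.C.comp (Polynomial.C : (ZMod p) →+* Polynomial (ZMod p))))
      (e3 a) (e3 b) (e P) = e3 (MvPolynomial.aeval ![a, b] P) := by
    intro a b
    rw [hev, MvPolynomial.aeval_def, MvPolynomial.algebraMap_eq, MvPolynomial.eval₂_comp_left,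
      MvPolynomial.coe_eval₂Hom]
    congr 1
    · ext r; simp [e3]
    · funext i; fin_cases i <;> rfl
  have hsym : Lazard.ev (Polynomial.C.comp Polynomial.C) (Polynomial.X : Polynomial (Polynomial (ZMod p)))
      (Polynomial.C Polynomial.X) (e P) = e P := by
    conv_rhs => rw [← hs]
    rw [hev, MvPolynomial.aeval_def, MvPolynomial.algebraMap_eq, MvPolynomial.eval₂_comp_left,
      MvPolynomial.coe_eval₂Hom]
    congr 1
    · ext r; simp [e]
    · funext i; fin_cases i <;> simp [e]
  have x0 : e3 (MvPolynomial.X 0) = Polynomial.C (Polynomial.C Polynomial.X) := by simp [e3]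
  have x1 : e3 (MvPolynomial.X 1) = Polynomial.C Polynomial.X := by simp [e3]
  have x2 : e3 (MvPolynomial.X 2) = Polynomial.X := by simp [e3]
  have hcoc := congrArg e3 hc
  rw [map_add, map_add, ← hev3, ← hev3, ← hev3, ← hev3, map_add, map_add, x0, x1, x2] at hcoc
  obtain ⟨g, M, b, hd⟩ := Lazard.exists_decomposition (p := p) (e P) (Lazard.isCoc_cf _ hsym hcoc)
    (fun g M b => by
      obtain ⟨h1, h2⟩ := good_std p g M b
      rw [sub_sub]
      change Lazard.IsCoc (Lazard.cf (e P - stdPoly p g M b))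
      refine Lazard.isCoc_cf _ ?_ ?_
      · rw [map_sub, hsym, h1]
      · simp only [map_sub]
        rw [sub_add_sub_comm, sub_add_sub_comm, hcoc, h2])
  refine ⟨g, M, b, ?_⟩
  have hid := congrArg (Lazard.ev (MvPolynomial.C : (ZMod p) →+* MvPolynomial (Fin 2) (ZMod p))
    (MvPolynomial.X 0) (MvPolynomial.X 1)) hd
  rw [hev, map_add, map_sum, ev_dP'] at hid
  simp only [ev_omega_pow'] at hid
  rw [← hid]
  have hv : (![MvPolynomial.X 0, MvPolynomial.X 1] : Fin 2 → MvPolynomial (Fin 2) (ZMod p)) = MvPolynomial.X := by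
    funext i; fin_cases i <;> rfl
  rw [hv]
  exact (MvPolynomial.eval₂_eta P).symm

/-- The decomposition modulo an ideal. -/
theorem exists_decomposition_mod {R : Type u} [CommRing R] [CharP R p] (J J' : Ideal R)
    (g : MvPolynomial (Fin 2) R) (hg : g ∈ J.map MvPolynomial.C)
    (hs : MvPolynomial.aeval ![MvPolynomial.X 1, (MvPolynomial.X 0 : MvPolynomial (Fin 2) R)] g - g ∈
      J'.map MvPolynomial.C)
    (hc : MvPolynomial.aeval ![MvPolynomial.X 0, (MvPolynomial.X 1 : MvPolynomial (Fin 3) R)] g +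
        MvPolynomial.aeval ![MvPolynomial.X 0 + MvPolynomial.X 1, (MvPolynomial.X 2 : MvPolynomial (Fin 3) R)] g -
      (MvPolynomial.aeval ![MvPolynomial.X 0, MvPolynomial.X 1 + (MvPolynomial.X 2 : MvPolynomial (Fin 3) R)] g +
        MvPolynomial.aeval ![MvPolynomial.X 1, (MvPolynomial.X 2 : MvPolynomial (Fin 3) R)] g) ∈
      J'.map MvPolynomial.C) :
    ∃ (G : Polynomial R) (M : ℕ) (c : ℕ → R), G ∈ J.map Polynomial.C ∧ (∀ s, c s ∈ J) ∧
      g - (delta MvPolynomial.C G (MvPolynomial.X 0) (MvPolynomial.X 1) +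
        ∑ s ∈ Finset.range M, MvPolynomial.C (c s) *
          wfun p (MvPolynomial.X 0 ^ p ^ s) (MvPolynomial.X 1 ^ p ^ s)) ∈ J'.map MvPolynomial.C := by
  classical
  let mkJ := Ideal.Quotient.mk J'
  let cast : ZMod p →+* R := ZMod.castHom dvd_rfl R
  letI : Algebra (ZMod p) (R ⧸ J') := (mkJ.comp cast).toAlgebra
  have halg : algebraMap (ZMod p) (R ⧸ J') = mkJ.comp cast := rfl
  set q := MvPolynomial.map mkJ g with hqdef
  have hker : ∀ {σ : Type} (Q : MvPolynomial σ R),
      Q ∈ J'.map MvPolynomial.C ↔ MvPolynomial.map mkJ Q = 0 := by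
    intro σ Q
    rw [MvPolynomial.mem_map_C_iff, MvPolynomial.ext_iff]
    simp [mkJ, MvPolynomial.coeff_map, Ideal.Quotient.eq_zero_iff_mem]
  let W : Submodule (ZMod p) (R ⧸ J') :=
    Submodule.span (ZMod p) ((q.support.image fun m => q.coeff m : Finset (R ⧸ J')) : Set (R ⧸ J'))
  have : FiniteDimensional (ZMod p) W := FiniteDimensional.span_finset _ _
  let B := Module.finBasis (ZMod p) W
  have hlift : ∀ w ∈ W, ∃ r ∈ J, mkJ r = w := by
    intro w hw
    induction hw using Submodule.span_induction with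
    | mem x hx =>
      obtain ⟨m, -, rfl⟩ := Finset.mem_image.mp (Finset.mem_coe.mp hx)
      exact ⟨g.coeff m, MvPolynomial.mem_map_C_iff.mp hg m, (MvPolynomial.coeff_map _ _ _).symm⟩
    | zero => exact ⟨0, J.zero_mem, map_zero _⟩
    | add x y _ _ hx hy =>
      obtain ⟨a, ha, rfl⟩ := hx
      obtain ⟨b, hb, rfl⟩ := hy
      exact ⟨a + b, add_mem ha hb, map_add _ _ _⟩
    | smul t x _ hx =>
      obtain ⟨a, ha, rfl⟩ := hx
      exact ⟨cast t * a, J.mul_mem_left _ ha, by rw [map_mul, Algebra.smul_def, halg]; rfl⟩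
  choose v hvJ hv using fun l => hlift _ (B l).2
  choose φ hφ using fun l => LinearMap.exists_extend (B.coord l)
  have hqW : ∀ m, q.coeff m ∈ W := by
    intro m
    by_cases hm : m ∈ q.support
    · exact Submodule.subset_span (Finset.mem_coe.mpr (Finset.mem_image_of_mem _ hm))
    · rw [MvPolynomial.notMem_support_iff.mp hm]; exact W.zero_mem
  have hq : q = ∑ l, MvPolynomial.C (B l : R ⧸ J') *
      MvPolynomial.map (algebraMap (ZMod p) (R ⧸ J')) (coeffFun p (φ l) q) := by
    ext m
    have h1 := congrArg (Subtype.val) (B.sum_repr ⟨q.coeff m, hqW m⟩)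
    simp only [AddSubmonoidClass.coe_finsetSum, SetLike.val_smul] at h1
    rw [MvPolynomial.coeff_sum]
    conv_lhs => rw [← h1]
    refine Finset.sum_congr rfl fun l _ => ?_
    rw [MvPolynomial.coeff_C_mul, MvPolynomial.coeff_map (algebraMap (ZMod p) (R ⧸ J')), coeff_coeffFun, mul_comm,
      ← Algebra.smul_def]
    congr 1
    exact (LinearMap.congr_fun (hφ l) ⟨q.coeff m, hqW m⟩).symm
  have haev : ∀ {τ : Type} (l) (w : Fin 2 → MvPolynomial τ (ZMod p)) (w' : Fin 2 → MvPolynomial τ R),
      (∀ i, MvPolynomial.map cast (w i) = w' i) →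
      coeffFun p (φ l) (MvPolynomial.map mkJ (MvPolynomial.aeval w' g)) =
        MvPolynomial.aeval w (coeffFun p (φ l) q) := by
    intro τ l w w' hw
    rw [← coeffFun_aeval]
    congr 1
    rw [hqdef, MvPolynomial.aeval_def, MvPolynomial.aeval_def, MvPolynomial.eval₂_comp_left,
      MvPolynomial.eval₂_map]
    congr 1
    · ext r; simp
    · funext i
      rw [Function.comp_apply, ← hw, MvPolynomial.map_map, halg]
  have hdec : ∀ l, ∃ (g' : Polynomial (ZMod p)) (M : ℕ) (b : ℕ → ZMod p),
      coeffFun p (φ l) q = delta MvPolynomial.C g' (MvPolynomial.X 0) (MvPolynomial.X 1) +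
        ∑ s ∈ Finset.range M, MvPolynomial.C (b s) *
          wfun p (MvPolynomial.X 0 ^ p ^ s) (MvPolynomial.X 1 ^ p ^ s) := by
    intro l
    apply exists_decomposition_prime p
    · have h := (hker _).mp hs
      rw [map_sub, sub_eq_zero] at h
      have h' := congrArg (coeffFun p (φ l)) h
      rwa [haev l ![MvPolynomial.X 1, MvPolynomial.X 0] _ (fun i => by fin_cases i <;> simp)] at h'
    · have h := (hker _).mp hc
      rw [map_sub, sub_eq_zero, map_add, map_add] at h
      have h' := congrArg (coeffFun p (φ l)) h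
      rwa [map_add, map_add,
        haev l ![MvPolynomial.X 0, MvPolynomial.X 1] _ (fun i => by fin_cases i <;> simp),
        haev l ![MvPolynomial.X 0 + MvPolynomial.X 1, MvPolynomial.X 2] _ (fun i => by fin_cases i <;> simp),
        haev l ![MvPolynomial.X 0, MvPolynomial.X 1 + MvPolynomial.X 2] _ (fun i => by fin_cases i <;> simp),
        haev l ![MvPolynomial.X 1, MvPolynomial.X 2] _ (fun i => by fin_cases i <;> simp)] at h'
  choose g' M b hgb using hdec
  let M0 := Finset.univ.sup M
  let b' : (l : _) → ℕ → ZMod p := fun l s => if s < M l then b l s else 0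
  refine ⟨∑ l, Polynomial.C (v l) * (g' l).map cast, M0, fun s => ∑ l, v l * cast (b' l s), ?_, ?_, ?_⟩
  · exact Ideal.sum_mem _ fun l _ => Ideal.mul_mem_right _ _ (Ideal.mem_map_of_mem _ (hvJ l))
  · exact fun s => Ideal.sum_mem _ fun l _ => J.mul_mem_right _ (hvJ l)
  rw [hker, map_sub, sub_eq_zero, ← hqdef]
  conv_lhs => rw [hq]
  simp only [hgb, map_add, map_sum, map_mul, MvPolynomial.map_C, Finset.sum_mul, mul_add,
    Finset.sum_add_distrib]
  congr 1
  · simp only [delta, map_sub, map_add, Polynomial.eval₂_finsetSum, Polynomial.eval₂_mul,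
      Polynomial.eval₂_C, map_sum, map_mul, MvPolynomial.map_C, Polynomial.eval₂_map,
      Polynomial.hom_eval₂, MvPolynomial.map_X, hv, halg]
    simp only [← Finset.sum_add_distrib, ← Finset.sum_sub_distrib]
    refine Finset.sum_congr rfl fun l _ => ?_
    have e : ∀ z : MvPolynomial (Fin 2) (R ⧸ J'), (g' l).eval₂ ((MvPolynomial.map (mkJ.comp cast)).comp MvPolynomial.C) z =
        (g' l).eval₂ ((MvPolynomial.map mkJ).comp (MvPolynomial.C.comp cast)) z := by
      intro z; congr 1; ext r; simp
    rw [e, e, e]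
    ring
  · rw [Finset.sum_comm]
    refine Finset.sum_congr rfl fun l _ => ?_
    rw [Finset.mul_sum]
    refine (Finset.sum_congr rfl fun s hs' => ?_).trans
      (Finset.sum_subset (Finset.range_mono (Finset.le_sup (f := M) (Finset.mem_univ l))) fun s _ hs' => ?_)
    · simp [b', Finset.mem_range.mp hs', map_wfun, hv, halg, mul_assoc]
    · simp [b', mt Finset.mem_range.mpr hs']

end Groth.Agent.GaExt
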