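import Groth.Agent.GaExt.Cocycle
import Mathlib.Algebra.MvPolynomial.Nilpotent
import Mathlib.RingTheory.Noetherian.Nilpotent
import Mathlib.RingTheory.Polynomial.Nilpotent

/-!
Multiplicative symmetric cocycles of `G_a` split when Frobenius is surjective.
-/

set_option autoImplicit false

universe u

namespace Groth.Agent.GaExt

variable {R : Type u} [CommRing R]

local notation "P2" => MvPolynomial (Fin 2) R

/-- Multiplicative symmetric cocycle. -/
def MCoc (H : MvPolynomial (Fin 2) R) : Prop :=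
  MvPolynomial.aeval ![(MvPolynomial.X 1 : MvPolynomial (Fin 2) R), MvPolynomial.X 0] H = H ∧
    MvPolynomial.aeval ![(MvPolynomial.X 1 : MvPolynomial (Fin 3) R), MvPolynomial.X 2] H *
        MvPolynomial.aeval ![MvPolynomial.X 0, MvPolynomial.X 1 + MvPolynomial.X 2] H =
      MvPolynomial.aeval ![MvPolynomial.X 0 + MvPolynomial.X 1, MvPolynomial.X 2] H *
        MvPolynomial.aeval ![MvPolynomial.X 0, MvPolynomial.X 1] H

theorem MCoc.mul {H H' : P2} (h : MCoc H) (h' : MCoc H') : MCoc (H * H') :=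
  ⟨by rw [map_mul, h.1, h'.1], by simp only [map_mul]; rw [mul_mul_mul_comm, h.2, h'.2, mul_mul_mul_comm]⟩

/-- Evaluation of a one-variable polynomial. -/
noncomputable abbrev at0 : Polynomial R →ₐ[R] P2 := Polynomial.aeval (MvPolynomial.X 0)
noncomputable abbrev at1 : Polynomial R →ₐ[R] P2 := Polynomial.aeval (MvPolynomial.X 1)
noncomputable abbrev at01 : Polynomial R →ₐ[R] P2 := Polynomial.aeval (MvPolynomial.X 0 + MvPolynomial.X 1)

/-- The coboundary of a unit. -/
noncomputable def dlt (f : (Polynomial R)ˣ) : P2 :=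
  at0 (f : Polynomial R) * at1 (f : Polynomial R) * at01 ((f⁻¹ : (Polynomial R)ˣ) : Polynomial R)

theorem at01_mul_inv (f : (Polynomial R)ˣ) :
    at01 (f : Polynomial R) * at01 ((f⁻¹ : (Polynomial R)ˣ) : Polynomial R) = 1 := by
  rw [← map_mul, Units.mul_inv, map_one]

theorem dlt_one : dlt (1 : (Polynomial R)ˣ) = 1 := by simp [dlt]

theorem dlt_mul (f f' : (Polynomial R)ˣ) : dlt (f * f') = dlt f * dlt f' := by
  simp only [dlt, mul_inv, Units.val_mul, map_mul]
  ring

theorem mcoc_dlt (f : (Polynomial R)ˣ) : MCoc (dlt f) := by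
  constructor
  · simp only [dlt, map_mul, Polynomial.aeval_algHom_apply]
    simp only [← Polynomial.aeval_algHom_apply, map_add, MvPolynomial.aeval_X, Matrix.cons_val_zero,
      Matrix.cons_val_one]
    rw [add_comm (MvPolynomial.X 1 : P2)]
    ring
  · simp only [dlt, map_mul]
    simp only [← Polynomial.aeval_algHom_apply, map_add, MvPolynomial.aeval_X, Matrix.cons_val_zero,
      Matrix.cons_val_one]
    have h1 : ∀ a : MvPolynomial (Fin 3) R,
        Polynomial.aeval a (f : Polynomial R) * Polynomial.aeval a ((f⁻¹ : (Polynomial R)ˣ) : Polynomial R) = 1 :=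
      fun a => by rw [← map_mul, Units.mul_inv, map_one]
    rw [add_assoc (MvPolynomial.X 0 : MvPolynomial (Fin 3) R)]
    set u := (f : Polynomial R)
    set g := ((f⁻¹ : (Polynomial R)ˣ) : Polynomial R)
    have e12 := h1 (MvPolynomial.X 1 + MvPolynomial.X 2)
    have e01 := h1 (MvPolynomial.X 0 + MvPolynomial.X 1)
    linear_combination (Polynomial.aeval (MvPolynomial.X 0 : MvPolynomial (Fin 3) R) u *
      Polynomial.aeval (MvPolynomial.X 1 : MvPolynomial (Fin 3) R) u *
      Polynomial.aeval (MvPolynomial.X 2 : MvPolynomial (Fin 3) R) u *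
      Polynomial.aeval (MvPolynomial.X 0 + (MvPolynomial.X 1 + MvPolynomial.X 2) : MvPolynomial (Fin 3) R) g) * (e12 - e01)

section step

variable (p : ℕ) [hp : Fact p.Prime] [CharP R p]

theorem map_C_mem {σ τ : Type} (J : Ideal R) (φ : MvPolynomial σ R →ₐ[R] MvPolynomial τ R)
    {x : MvPolynomial σ R} (hx : x ∈ J.map MvPolynomial.C) : φ x ∈ J.map MvPolynomial.C := by
  have h := Ideal.mem_map_of_mem φ.toRingHom hx
  rw [Ideal.map_map] at h
  have e : φ.toRingHom.comp (MvPolynomial.C : R →+* MvPolynomial σ R) = MvPolynomial.C :=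
    RingHom.ext fun r => φ.commutes r
  rwa [e] at h

theorem aeval_mem_map_C {τ : Type} (J : Ideal R) (z : MvPolynomial τ R) {G : Polynomial R}
    (hG : G ∈ J.map Polynomial.C) : Polynomial.aeval z G ∈ J.map MvPolynomial.C := by
  have h := Ideal.mem_map_of_mem (Polynomial.aeval z).toRingHom hG
  rw [Ideal.map_map] at h
  have e : (Polynomial.aeval z).toRingHom.comp (Polynomial.C : R →+* Polynomial R) = MvPolynomial.C :=
    RingHom.ext fun r => Polynomial.aeval_C z r
  rwa [e] at h

theorem delta_eq (G : Polynomial R) :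
    delta (MvPolynomial.C : R →+* P2) G (MvPolynomial.X 0) (MvPolynomial.X 1) =
      at0 G + at1 G - at01 G := rfl

/-- `f` has coboundary `1 + a` modulo `J'`. -/
def Lin (J' : Ideal R) (f : (Polynomial R)ˣ) (a : P2) : Prop :=
  at0 (f : Polynomial R) * at1 (f : Polynomial R) - at01 (f : Polynomial R) * (1 + a) ∈ J'.map MvPolynomial.C

theorem Lin.dlt {J' : Ideal R} {f : (Polynomial R)ˣ} {a : P2} (h : Lin J' f a) :
    dlt f - (1 + a) ∈ J'.map MvPolynomial.C := by
  have := Ideal.mul_mem_right (at01 ((f⁻¹ : (Polynomial R)ˣ) : Polynomial R)) _ h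
  have e := at01_mul_inv f
  convert this using 1
  simp only [GaExt.dlt]
  linear_combination (1 + a) * e

theorem Lin.mul {J J' : Ideal R} (hJJ : J * J ≤ J') {f f' : (Polynomial R)ˣ} {a b : P2}
    (ha : a ∈ J.map MvPolynomial.C) (hb : b ∈ J.map MvPolynomial.C)
    (h : Lin J' f a) (h' : Lin J' f' b) : Lin J' (f * f') (a + b) := by
  have hab : a * b ∈ J'.map MvPolynomial.C := by
    have h2 := Ideal.mul_mem_mul ha hb
    rw [← Ideal.map_mul] at h2
    exact Ideal.map_mono hJJ h2
  have h1 := Ideal.mul_mem_right (at0 (f' : Polynomial R) * at1 (f' : Polynomial R)) _ h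
  have h2 := Ideal.mul_mem_left _ (at01 (f : Polynomial R) * (1 + a)) h'
  have h3 := Ideal.mul_mem_left _ (at01 (f : Polynomial R) * at01 (f' : Polynomial R)) hab
  have := add_mem (add_mem h1 h2) h3
  unfold Lin
  convert this using 1
  simp only [Units.val_mul, map_mul]
  ring

theorem pow_le_of_le {I : Ideal R} {a b : ℕ} (h : a ≤ b) : I ^ b ≤ I ^ a := Ideal.pow_le_pow_right h

include hp in
/-- One step. -/
theorem exists_step (hF : Function.Surjective (frobenius R p)) (I : Ideal R) (hI : IsNilpotent I)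
    (k : ℕ) (hk : 1 ≤ k) (H : P2) (hH : MCoc H) (hk1 : H - 1 ∈ (I ^ k).map MvPolynomial.C) :
    ∃ f : (Polynomial R)ˣ, dlt f * H - 1 ∈ (I ^ (k + 1)).map MvPolynomial.C := by
  set J := I ^ k with hJ
  set J' := I ^ (k + 1) with hJ'
  have hJJ : J * J ≤ J' := by rw [hJ, hJ', ← pow_add]; exact pow_le_of_le (by omega)
  set g := H - 1 with hg
  have hgg : ∀ {τ : Type} (a b : MvPolynomial τ R), a ∈ J.map MvPolynomial.C → b ∈ J.map MvPolynomial.C →
      a * b ∈ J'.map MvPolynomial.C := by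
    intro τ a b ha hb
    have h2 := Ideal.mul_mem_mul ha hb
    rw [← Ideal.map_mul] at h2
    exact Ideal.map_mono hJJ h2
  have hs : MvPolynomial.aeval ![MvPolynomial.X 1, (MvPolynomial.X 0 : P2)] g - g ∈ J'.map MvPolynomial.C := by
    rw [hg, map_sub, map_one, hH.1, sub_self]; exact Ideal.zero_mem _
  have hc : MvPolynomial.aeval ![MvPolynomial.X 0, (MvPolynomial.X 1 : MvPolynomial (Fin 3) R)] g +
        MvPolynomial.aeval ![MvPolynomial.X 0 + MvPolynomial.X 1, (MvPolynomial.X 2 : MvPolynomial (Fin 3) R)] g -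
      (MvPolynomial.aeval ![MvPolynomial.X 0, MvPolynomial.X 1 + (MvPolynomial.X 2 : MvPolynomial (Fin 3) R)] g +
        MvPolynomial.aeval ![MvPolynomial.X 1, (MvPolynomial.X 2 : MvPolynomial (Fin 3) R)] g) ∈
      J'.map MvPolynomial.C := by
    have h2 := hH.2
    rw [show H = 1 + g by rw [hg]; ring] at h2
    simp only [map_add, map_one] at h2
    have hm : ∀ v : Fin 2 → MvPolynomial (Fin 3) R, MvPolynomial.aeval v g ∈ J.map MvPolynomial.C :=
      fun v => map_C_mem J _ hk1
    have := sub_mem (hgg _ _ (hm ![MvPolynomial.X 1, MvPolynomial.X 2])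
      (hm ![MvPolynomial.X 0, MvPolynomial.X 1 + MvPolynomial.X 2]))
      (hgg _ _ (hm ![MvPolynomial.X 0 + MvPolynomial.X 1, MvPolynomial.X 2])
        (hm ![MvPolynomial.X 0, MvPolynomial.X 1]))
    convert this using 1
    linear_combination -h2
  obtain ⟨G, M, c, hG, hc', hdec⟩ := exists_decomposition_mod p J J' g hk1 hs hc
  have hJnil : IsNilpotent (J.map (Polynomial.C : R →+* Polynomial R)) := by
    obtain ⟨n, hn⟩ := hI
    refine ⟨n, ?_⟩
    rw [← Ideal.map_pow, hJ, ← pow_mul]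
    have : I ^ (k * n) = 0 := pow_eq_zero_of_le (Nat.le_mul_of_pos_left n hk) hn
    rw [this, Ideal.zero_eq_bot, Ideal.map_bot, Ideal.zero_eq_bot]
  have hGnil : IsNilpotent G := by
    obtain ⟨n, hn⟩ := hJnil
    refine ⟨n, ?_⟩
    have := Ideal.pow_mem_pow hG n
    rwa [hn, Ideal.zero_eq_bot, Ideal.mem_bot] at this
  let f0 : (Polynomial R)ˣ := (IsNilpotent.isUnit_one_sub hGnil).unit
  have hf0 : (f0 : Polynomial R) = 1 - G := IsUnit.unit_spec _
  have hl0 : Lin J' f0 (-delta (MvPolynomial.C : R →+* P2) G (MvPolynomial.X 0) (MvPolynomial.X 1)) := by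
    unfold Lin
    rw [hf0, map_sub, map_sub, map_sub, map_one, map_one, map_one, delta_eq]
    have := sub_mem (hgg _ _ (aeval_mem_map_C J (MvPolynomial.X 0 : P2) hG) (aeval_mem_map_C J (MvPolynomial.X 1 : P2) hG))
      (hgg _ _ (aeval_mem_map_C J (MvPolynomial.X 0 + MvPolynomial.X 1 : P2) hG)
        (sub_mem (add_mem (aeval_mem_map_C J (MvPolynomial.X 0 : P2) hG) (aeval_mem_map_C J (MvPolynomial.X 1 : P2) hG))
          (aeval_mem_map_C J (MvPolynomial.X 0 + MvPolynomial.X 1 : P2) hG)))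
    convert this using 1
    ring
  choose d hd using fun s => hF (-c s)
  simp only [frobenius_def] at hd
  have hdnil : ∀ s, IsNilpotent (d s) := by
    intro s
    obtain ⟨n, hn⟩ := hI
    refine ⟨p * n, ?_⟩
    rw [pow_mul, hd]
    have h1 := Ideal.pow_mem_pow ((I ^ k).neg_mem (hc' s)) n
    rw [← pow_mul, pow_eq_zero_of_le (Nat.le_mul_of_pos_left n hk) hn, Ideal.zero_eq_bot, Ideal.mem_bot] at h1
    exact h1
  let φ : ℤ_[p] →+* Polynomial R := Polynomial.C.comp (padicTo p R)
  have hunit : ∀ s, IsUnit (ah p φ (Polynomial.C (d s) * Polynomial.X ^ p ^ s)) := by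
    intro s
    set t := Polynomial.C (d s) * Polynomial.X ^ p ^ s with ht
    have htn : IsNilpotent t := (Commute.all _ _).isNilpotent_mul_right ((hdnil s).map Polynomial.C)
    have h1 : ah p φ t - 1 ∈ Ideal.span {t} := by
      rw [← Ideal.Quotient.mk_eq_mk_iff_sub_mem, map_one, map_ah,
        Ideal.Quotient.eq_zero_iff_mem.mpr (Ideal.mem_span_singleton_self t), ah_zero]
    obtain ⟨w, hw⟩ := Ideal.mem_span_singleton'.mp h1
    rw [show ah p φ t = 1 + w * t by rw [hw]; ring]
    exact ((Commute.all _ _).isNilpotent_mul_left htn).isUnit_one_add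
  let fs : ℕ → (Polynomial R)ˣ := fun s => (hunit s).unit
  have hls : ∀ s, Lin J' (fs s)
      (-(MvPolynomial.C (c s) * wfun p (MvPolynomial.X 0 ^ p ^ s) (MvPolynomial.X 1 ^ p ^ s))) := by
    intro s
    unfold Lin
    let ψ : ℤ_[p] →+* P2 := MvPolynomial.C.comp (padicTo p R)
    have hev : ∀ z : P2, Polynomial.aeval z (fs s : Polynomial R) = ah p ψ (MvPolynomial.C (d s) * z ^ p ^ s) := by
      intro z
      rw [show (fs s : Polynomial R) = ah p φ (Polynomial.C (d s) * Polynomial.X ^ p ^ s) from IsUnit.unit_spec _]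
      refine (map_ah p φ (Polynomial.aeval z).toRingHom _).trans ?_
      congr 1
      · ext r; simp [φ, ψ]
      · simp
    rw [show at0 (fs s : Polynomial R) = _ from hev _, show at1 (fs s : Polynomial R) = _ from hev _,
      show at01 (fs s : Polynomial R) = _ from hev _, add_pow_char_pow]
    obtain ⟨w, hw⟩ := ah_mul p ψ (MvPolynomial.C (d s) : P2) (MvPolynomial.X 0 ^ p ^ s) (MvPolynomial.X 1 ^ p ^ s)
    rw [hw, ← map_pow, hd, map_neg, neg_mul, add_sub_cancel_left]
    refine Ideal.mul_mem_right _ _ ?_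
    rw [← map_pow]
    refine Ideal.mem_map_of_mem _ (hJJ ?_)
    rw [mul_comm 2 p, pow_mul, hd, neg_sq, pow_two]
    exact Ideal.mul_mem_mul (hc' s) (hc' s)
  have hwmem : ∀ s, -(MvPolynomial.C (c s) * wfun p (MvPolynomial.X 0 ^ p ^ s) (MvPolynomial.X 1 ^ p ^ s) : P2) ∈
      J.map MvPolynomial.C := fun s => neg_mem (Ideal.mul_mem_right _ _ (Ideal.mem_map_of_mem _ (hc' s)))
  have hprod : ∀ m, Lin J' (∏ s ∈ Finset.range m, fs s)
      (∑ s ∈ Finset.range m, -(MvPolynomial.C (c s) * wfun p (MvPolynomial.X 0 ^ p ^ s) (MvPolynomial.X 1 ^ p ^ s))) := by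
    intro m
    induction m with
    | zero => simp [Lin]
    | succ m ih =>
      rw [Finset.prod_range_succ, Finset.sum_range_succ]
      exact Lin.mul hJJ (Ideal.sum_mem _ fun s _ => hwmem s) (hwmem m) ih (hls m)
  have hd0 : -delta (MvPolynomial.C : R →+* P2) G (MvPolynomial.X 0) (MvPolynomial.X 1) ∈ J.map MvPolynomial.C := by
    rw [delta_eq]
    exact neg_mem (sub_mem (add_mem (aeval_mem_map_C J _ hG) (aeval_mem_map_C J _ hG)) (aeval_mem_map_C J _ hG))
  have hall := (Lin.mul hJJ hd0 (Ideal.sum_mem _ fun s _ => hwmem s) hl0 (hprod M)).dlt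
  refine ⟨f0 * ∏ s ∈ Finset.range M, fs s, ?_⟩
  set F := f0 * ∏ s ∈ Finset.range M, fs s
  set a := -delta (MvPolynomial.C : R →+* P2) G (MvPolynomial.X 0) (MvPolynomial.X 1) +
    ∑ s ∈ Finset.range M, -(MvPolynomial.C (c s) * wfun p (MvPolynomial.X 0 ^ p ^ s) (MvPolynomial.X 1 ^ p ^ s)) with ha
  have hga : g + a ∈ J'.map MvPolynomial.C := by
    convert hdec using 1
    rw [ha, Finset.sum_neg_distrib]; ring
  have hag : a * g ∈ J'.map MvPolynomial.C :=
    hgg _ _ (add_mem hd0 (Ideal.sum_mem _ fun s _ => hwmem s)) hk1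
  have := add_mem (add_mem (Ideal.mul_mem_right H _ hall) hga) hag
  convert this using 1
  rw [hg]
  ring

include hp in
theorem exists_splitting (hF : Function.Surjective (frobenius R p)) (h : P2) (hu : IsUnit h)
    (hc0 : h.coeff 0 = 1) (hh : MCoc h) : ∃ f : (Polynomial R)ˣ, dlt f * h = 1 := by
  classical
  let I : Ideal R := Ideal.span ↑((h - 1).support.image fun m => (h - 1).coeff m)
  have hI : IsNilpotent I := by
    refine (Ideal.FG.isNilpotent_iff_le_nilradical (Submodule.fg_span (Finset.finite_toSet _))).mpr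
      (Ideal.span_le.mpr ?_)
    intro x hx
    obtain ⟨m, -, rfl⟩ := Finset.mem_image.mp (Finset.mem_coe.mp hx)
    rw [SetLike.mem_coe, mem_nilradical]
    by_cases hm : m = 0
    · subst hm; simp [hc0]
    · simpa [MvPolynomial.coeff_one, Ne.symm hm] using (MvPolynomial.isUnit_iff.mp hu).2 m hm
  have h1 : h - 1 ∈ (I ^ 1).map MvPolynomial.C := by
    rw [pow_one, MvPolynomial.mem_map_C_iff]
    intro m
    by_cases hm : m ∈ (h - 1).support
    · exact Ideal.subset_span (Finset.mem_coe.mpr (Finset.mem_image_of_mem _ hm))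
    · rw [MvPolynomial.notMem_support_iff.mp hm]; exact I.zero_mem
  have hit : ∀ k : ℕ, ∃ f : (Polynomial R)ˣ, dlt f * h - 1 ∈ (I ^ (k + 1)).map MvPolynomial.C := by
    intro k
    induction k with
    | zero => exact ⟨1, by rwa [dlt_one, one_mul]⟩
    | succ k ih =>
      obtain ⟨f, hf⟩ := ih
      obtain ⟨f', hf'⟩ := exists_step p hF I hI (k + 1) (by omega) _ ((mcoc_dlt f).mul hh) hf
      exact ⟨f' * f, by rwa [dlt_mul, mul_assoc]⟩
  obtain ⟨n, hn⟩ := hI
  obtain ⟨f, hf⟩ := hit n
  refine ⟨f, sub_eq_zero.mp ?_⟩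
  rwa [pow_eq_zero_of_le (Nat.le_succ n) hn, Ideal.zero_eq_bot, Ideal.map_bot, Ideal.mem_bot] at hf

end step

end Groth.Agent.GaExt
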